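import Cfsg.Agent.Linear.Order
import Cfsg.Agent.S0205
import Cfsg.Agent.Cores.PCore
import Mathlib.GroupTheory.SpecificGroups.Dihedral
import Cfsg.Prelude.Def_CaseTheorems

/-!
Simple groups with Klein Sylow 2-subgroups, from the theorem on perfect groups with dihedral Sylow 2-subgroups.
-/

set_option autoImplicit false
set_option linter.unusedSectionVars false
set_option linter.style.haveILetI false

namespace Cfsg.Agent.H10.AbTwo

universe u

/-- Gorenstein-Walter for Klein Sylow 2-subgroups of perfect groups. -/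
def GWKleinHyp : Prop :=
  ∀ (X : Type u) [Group X] [Finite X] [Group.IsPerfect X] (S : Sylow 2 X),
    Nonempty ((S : Subgroup X) ≃* DihedralGroup 2) →
    (∃ (F : Type) (_ : Field F) (_ : Fintype F), Odd (Fintype.card F) ∧ 3 < Fintype.card F ∧
        Nonempty (X ⧸ Cfsg.oddCore X ≃* Matrix.ProjectiveSpecialLinearGroup (Fin 2) F)) ∨
      Nonempty (X ⧸ Cfsg.oddCore X ≃* alternatingGroup (Fin 7))

theorem klein_simple (hK : GWKleinHyp.{u}) {G : Type u} [Group G] [Finite G] [IsSimpleGroup G]
    (hG : ¬ IsMulCommutative G) (S : Sylow 2 G) (hS : Nonempty ((S : Subgroup G) ≃* DihedralGroup 2)) :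
    ∃ (F : Type) (_ : Field F) (_ : Fintype F),
      (Fintype.card F % 8 = 3 ∨ Fintype.card F % 8 = 5) ∧ 5 ≤ Fintype.card F ∧
        Nonempty (G ≃* Matrix.ProjectiveSpecialLinearGroup (Fin 2) F) := by
  haveI : Fact (Nat.Prime 2) := ⟨Nat.prime_two⟩
  haveI : Group.IsPerfect G := by
    rw [Group.isPerfect_def]
    rcases (inferInstance : (commutator G).Normal).eq_bot_or_eq_top with h | h
    · exfalso
      exact hG ⟨⟨fun a b => commutatorElement_eq_one_iff_mul_comm.1 (Subgroup.mem_bot.1
        (h ▸ Subgroup.commutator_mem_commutator (Subgroup.mem_top a) (Subgroup.mem_top b)))⟩⟩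
    · exact h
  have hO : Cfsg.oddCore G = ⊥ := by
    rcases (show (Cfsg.oddCore G).Normal from inferInstance).eq_bot_or_eq_top with h | h
    · exact h
    · exfalso
      have h1 : Odd (Nat.card G) := by
        have := Cores.odd_card_oddCore (G := G)
        rwa [h, Subgroup.card_top] at this
      haveI := S0205.result h1
      exact hG ⟨⟨fun a b => IsSimpleGroup.comm_iff_isSolvable.2 inferInstance a b⟩⟩
  let e : G ⧸ Cfsg.oddCore G ≃* G := (QuotientGroup.quotientMulEquivOfEq hO).trans QuotientGroup.quotientBot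
  have h4 : Nat.card (S : Subgroup G) = 4 := by
    obtain ⟨d⟩ := hS
    rw [Nat.card_congr d.toEquiv, DihedralGroup.nat_card]
  have h8 : ¬ 8 ∣ Nat.card G := fun h => by
    obtain ⟨Q, hQ⟩ := Sylow.exists_subgroup_card_pow_prime 2 (n := 3) (G := G) (by simpa using h)
    obtain ⟨T, hT⟩ := (IsPGroup.of_card hQ).exists_le_sylow
    have := Subgroup.card_dvd_of_le hT
    rw [hQ, Nat.card_congr (T.equiv S).toEquiv, h4] at this
    norm_num at this
  rcases hK G S hS with ⟨F, fld, ft, hodd, h3, ⟨f⟩⟩ | ⟨⟨f⟩⟩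
  · refine ⟨F, fld, ft, ?_, ?_, ⟨e.symm.trans f⟩⟩
    · have hc := Agent.Linear.card_PSL_two_mul (F := F)
      rw [← Nat.card_congr (e.symm.trans f).toEquiv] at hc
      have h2 : Nat.gcd 2 (Fintype.card F - 1) = 2 := Nat.gcd_eq_left (by
        obtain ⟨k, hk⟩ := hodd; omega)
      rw [h2] at hc
      by_contra hne
      push Not at hne
      have h16 : 16 ∣ Fintype.card F ^ 2 - 1 := by
        have hm : Fintype.card F % 8 = 1 ∨ Fintype.card F % 8 = 7 := by
          obtain ⟨k, hk⟩ := hodd; omega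
        generalize Fintype.card F = n at hm
        obtain ⟨k, rfl | rfl⟩ : ∃ k, n = 8 * k + 1 ∨ n = 8 * k + 7 := ⟨n / 8, by omega⟩
        · rw [show (8 * k + 1) ^ 2 = 16 * (4 * k * k + k) + 1 by ring]; simp
        · rw [show (8 * k + 7) ^ 2 = 16 * (4 * k * k + 7 * k + 3) + 1 by ring]; simp
      have : 2 * 8 ∣ 2 * Nat.card G := hc ▸ Dvd.dvd.mul_left h16 _
      exact h8 (Nat.dvd_of_mul_dvd_mul_left two_pos this)
    · obtain ⟨k, hk⟩ := hodd; omega
  · exfalso
    apply h8
    rw [Nat.card_congr (e.symm.trans f).toEquiv]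
    have h7 := (alternatingGroup (Fin 7)).card_mul_index
    rw [alternatingGroup.index_eq_two, Nat.card_perm, Nat.card_fin, show Nat.factorial 7 = 5040 from rfl] at h7
    omega

end Cfsg.Agent.H10.AbTwo
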