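import Cfsg.Agent.H10.AbTwo.Sylow
import Cfsg.Agent.H10.AbTwo.Klein
import Cfsg.Agent.H70.Balanced.Rows
import Cfsg.Agent.H70.Balanced.Criterion
import Cfsg.Agent.H76.PostBender.Main
import Cfsg.Agent.H39.Dihedral
import Cfsg.Agent.H29.Bender.Sylow
import Cfsg.Agent.S0205
import Cfsg.Agent.S0516

/-!
Groups with abelian Sylow 2-subgroups and solvable involution centralisers (the statement S3188), given the
core theorem for strongly embedded subgroups, Bender's theorem and the Gorenstein-Walter theorem for Klein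
Sylow 2-subgroups.
-/

set_option autoImplicit false
set_option linter.unusedSectionVars false
set_option linter.style.haveILetI false

namespace Cfsg.Agent.H10.AbTwo

open Subgroup

universe u

/-- The core theorem for strongly embedded subgroups. -/
def SECoreHyp : Prop :=
  ∀ (G : Type u) [Group G] [Finite G] (H : Subgroup G), Cfsg.IsStronglyEmbedded H →
    (Cfsg.oddCore ↥H).map H.subtype ≤ Cfsg.oddCore G

/-- The fields that occur. -/
def GoodField (F : Type) [Fintype F] : Prop :=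
  ((Fintype.card F % 8 = 3 ∨ Fintype.card F % 8 = 5) ∧ 5 ≤ Fintype.card F) ∨
    ∃ n : ℕ, 2 ≤ n ∧ Fintype.card F = 2 ^ n

section Simple

variable {G : Type u} [Group G] [Finite G] [IsSimpleGroup G] (S : Sylow 2 G)

theorem rank_three_case (hB : SECoreHyp.{u}) (hBend : H76.PostBender.BenderHyp.{u})
    (hG : ¬ IsMulCommutative G) (hS : IsMulCommutative ↥(S : Subgroup G))
    (hsol : ∀ t : G, orderOf t = 2 → Group.IsSolvable ↥(centralizer ({t} : Set G)))
    (h3 : ¬ Cfsg.PRankLE 2 2 G) :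
    ∃ (F : Type) (_ : Field F) (_ : Fintype F), GoodField F ∧
      Nonempty (G ≃* Matrix.ProjectiveSpecialLinearGroup (Fin 2) F) := by
  haveI : Fact (Nat.Prime 2) := ⟨Nat.prime_two⟩
  obtain ⟨A, hAS, hA, hA8⟩ := H70.Balanced.exists_eight h3 S
  haveI : ((S : Subgroup G).subgroupOf (S : Subgroup G)).Normal := by
    rw [subgroupOf_self]; infer_instance
  have hO := H70.Balanced.solvable_centralizers_cores_trivial (G := G) (fun H hH => hB G H hH)
    (H70.Balanced.oddCore_eq_bot_of_simple hG) S (S : Subgroup G) le_rfl inferInstance hS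
    (Cfsg.Agent.Fusion.Signalizer.not_pRankLE_of_le hAS hA (by simpa using hA8)) hsol
  -- an involution lies in a unique Sylow subgroup
  have huniq : ∀ t : G, orderOf t = 2 → ∀ T : Sylow 2 G, t ∈ (T : Subgroup G) → (T : Subgroup G) =
      (Cfsg.pCore 2 ↥(centralizer ({t} : Set G))).map (centralizer ({t} : Set G)).subtype := by
    intro t ht T htT
    haveI := hsol t ht
    set C := centralizer ({t} : Set G)
    have hc := (Cores.isPConstrained_iff_of_pPrimeCore_eq_bot (hO t ht)).1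
      (Cores.isPConstrained_of_isPSolvable Cores.isPSolvable_of_isSolvable)
    have hTC : (T : Subgroup G) ≤ C := fun x hx => mem_centralizer_singleton_iff.2
      (comm_of_sylow S hS T.isPGroup' hx htT).eq
    have hle : Cfsg.pCore 2 ↥C ≤ (T : Subgroup G).subgroupOf C := Cores.pCore_le_sylow (T.subtype hTC)
    have hge : (T : Subgroup G).subgroupOf C ≤ Cfsg.pCore 2 ↥C := fun x hx =>
      hc (mem_centralizer_iff.2 fun y hy => Subtype.ext
        (comm_of_sylow S hS T.isPGroup' (x := (y : G)) (y := (x : G)) (hle hy) hx).eq)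
    rw [le_antisymm hle hge, subgroupOf_map_subtype, inf_eq_left.2 hTC]
  have hS1 : (S : Subgroup G) ≠ ⊥ := fun h => by
    have h1 := (card_le_of_le hAS).trans_eq (card_eq_one.2 h ▸ rfl : Nat.card ↥(S : Subgroup G) = 1)
    omega
  have hM : normalizer ((S : Subgroup G) : Set G) ≠ ⊤ := fun h => by
    rcases (normalizer_eq_top_iff.1 h).eq_bot_or_eq_top with h1 | h1
    · exact hS1 h1
    · exact hG ⟨⟨fun a b => (comm_of_sylow S hS S.isPGroup' (h1 ▸ mem_top a) (h1 ▸ mem_top b)).eq⟩⟩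
  have hSE : Cfsg.IsStronglyEmbedded (normalizer ((S : Subgroup G) : Set G)) := by
    refine H70.Balanced.isStronglyEmbedded_of_centralizer_le hM S hS1 le_rfl fun x hxS hx c hc => ?_
    refine Sylow.smul_eq_iff_mem_normalizer.1 (Sylow.ext ?_)
    have hmem : x ∈ ((c • S : Sylow 2 G) : Subgroup G) := by
      refine ⟨x, hxS, ?_⟩
      show c * x * c⁻¹ = x
      rw [mem_centralizer_singleton_iff.1 hc, mul_inv_cancel_right]
    rw [huniq x hx _ hmem, huniq x hx S hxS]
  have hna : ∃ a b : G, a * b ≠ b * a := by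
    by_contra h
    push Not at h
    exact hG ⟨⟨h⟩⟩
  rcases hBend G hna _ hSE with ⟨F, _, _, hc, h4, he⟩ | h | ⟨F, _, _, q, hF, hq, -, ⟨e⟩⟩
  · obtain ⟨n, -, hn⟩ := FiniteField.card F 2
    refine ⟨F, _, _, Or.inr ⟨n, ?_, hn⟩, he⟩
    by_contra hlt
    have := Nat.pow_le_pow_right (show 1 ≤ 2 by norm_num) (Nat.lt_succ_iff.1 (not_le.1 hlt))
    omega
  · exact absurd hS (sz_sylow_nonabelian h S)
  · haveI := H76.PostBender.charP_two_of_card hF hq
    exact absurd hS (psu_sylow_nonabelian hF e S)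

theorem rank_two_case (hK : GWKleinHyp.{u}) (hG : ¬ IsMulCommutative G)
    (hS : IsMulCommutative ↥(S : Subgroup G)) (h2 : Cfsg.PRankLE 2 2 G) :
    ∃ (F : Type) (_ : Field F) (_ : Fintype F), GoodField F ∧
      Nonempty (G ≃* Matrix.ProjectiveSpecialLinearGroup (Fin 2) F) := by
  haveI : Fact (Nat.Prime 2) := ⟨Nat.prime_two⟩
  haveI : Fintype (GaloisField 2 4) := Fintype.ofFinite _
  have hF : Fintype.card (GaloisField 2 4) = 16 := by
    rw [← Nat.card_eq_fintype_card, GaloisField.card 2 4 (by norm_num)]; norm_num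
  obtain ⟨P⟩ : Nonempty (Sylow 2 (Cfsg.PSU 3 (GaloisField 2 4) 4)) := inferInstance
  rcases S0516.result hG h2 S hF P with ⟨n, hn, ⟨e⟩⟩ | h | h | ⟨⟨e⟩⟩
  · obtain rfl := dihedral_abelian hS hn e
    obtain ⟨F, _, _, h8, h5, he⟩ := klein_simple hK hG S ⟨e⟩
    exact ⟨F, _, _, Or.inl ⟨h8, h5⟩, he⟩
  · exact absurd hS (qd_nonabelian h)
  · exact absurd hS (wreathed_nonabelian h)
  · haveI := hS
    refine absurd ?_ (psu_sylow_nonabelian (p := 2) (q := 4) (by rw [hF]; norm_num) (MulEquiv.refl _) P)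
    exact ⟨⟨fun a b => e.symm.injective (by rw [map_mul, map_mul]; exact hS.1.comm _ _)⟩⟩

end Simple

section Minimal

variable {G : Type u} [Group G] [Finite G]

/-- A centraliser of an element is solvable in a subgroup if it is in the group. -/
theorem solvable_centralizer_sub (hsol : ∀ t : G, orderOf t = 2 → Group.IsSolvable ↥(centralizer ({t} : Set G)))
    (N : Subgroup G) (t : ↥N) (ht : orderOf t = 2) : Group.IsSolvable ↥(centralizer ({t} : Set ↥N)) := by
  haveI := hsol (t : G) (by rw [Subgroup.orderOf_coe, ht])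
  let f : ↥(centralizer ({t} : Set ↥N)) →* ↥(centralizer ({(t : G)} : Set G)) :=
    (N.subtype.comp (centralizer ({t} : Set ↥N)).subtype).codRestrict _ fun x =>
      mem_centralizer_singleton_iff.2 (congrArg Subtype.val (mem_centralizer_singleton_iff.1 x.2))
  exact Group.isSolvable_of_isSolvable_injective (f := f) fun a b h =>
    Subtype.ext (Subtype.ext (Subtype.ext_iff.1 h :))

theorem solvable_of_le {A B : Subgroup G} (h : A ≤ B) (hB : Group.IsSolvable ↥B) : Group.IsSolvable ↥A :=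
  haveI := hB
  Group.isSolvable_of_isSolvable_injective (f := inclusion h) (inclusion_injective h)

theorem exists_involution_of_normal (hO : Cfsg.oddCore G = ⊥) {N : Subgroup G} [N.Normal] (hN : N ≠ ⊥) :
    ∃ t ∈ N, orderOf t = 2 := by
  haveI : Fact (Nat.Prime 2) := ⟨Nat.prime_two⟩
  rcases Nat.even_or_odd (Nat.card N) with h | h
  · obtain ⟨a, ha⟩ := exists_prime_orderOf_dvd_card' (G := N) 2 (even_iff_two_dvd.1 h)
    exact ⟨a, a.2, by rw [Subgroup.orderOf_coe, ha]⟩
  · exact absurd (le_bot_iff.1 (hO ▸ Cores.le_oddCore h)) hN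

theorem comm_of_le_centralizer {A B : Subgroup G} (hd : A ⊓ B = ⊥) (hA : B ≤ normalizer (A : Set G))
    (hB : A ≤ normalizer (B : Set G)) {a b : G} (ha : a ∈ A) (hb : b ∈ B) : a * b = b * a := by
  have h1 : a * b * a⁻¹ * b⁻¹ ∈ A ⊓ B := mem_inf.2 ⟨by
    rw [show a * b * a⁻¹ * b⁻¹ = a * (b * a⁻¹ * b⁻¹) by group]
    exact mul_mem ha ((mem_normalizer_iff.1 (hA hb) a⁻¹).1 (inv_mem ha)),
    mul_mem ((mem_normalizer_iff.1 (hB ha) _).1 hb) (inv_mem hb)⟩
  rw [hd, mem_bot, mul_inv_eq_one, mul_inv_eq_iff_eq_mul] at h1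
  exact h1

/-- A nonsolvable minimal normal subgroup is simple. -/
theorem minimal_normal_simple (hO : Cfsg.oddCore G = ⊥)
    (hsol : ∀ t : G, orderOf t = 2 → Group.IsSolvable ↥(centralizer ({t} : Set G)))
    {N : Subgroup G} [hN : N.Normal] (hN1 : N ≠ ⊥)
    (hmin : ∀ K : Subgroup G, K.Normal → K ≠ ⊥ → K ≤ N → K = N) (hns : ¬ Group.IsSolvable ↥N) :
    IsSimpleGroup ↥N := by
  haveI : Fact (Nat.Prime 2) := ⟨Nat.prime_two⟩
  haveI : Nontrivial N := (nontrivial_iff_ne_bot N).2 hN1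
  refine ⟨fun M₀ hM₀ => ?_⟩
  by_contra hc
  push Not at hc
  obtain ⟨M, ⟨hM1, hMtop, hMn⟩, hMmin⟩ :=
    (Set.toFinite {M : Subgroup G | M ≠ ⊥ ∧ M < N ∧ N ≤ normalizer (M : Set G)}).exists_minimal
      ⟨M₀.map N.subtype, fun h => hc.1 ((map_eq_bot_iff_of_injective _ N.subtype_injective).1 h),
        lt_of_le_of_ne (map_subtype_le _) fun h => hc.2 (map_injective N.subtype_injective
          (by rw [h, ← MonoidHom.range_eq_map, range_subtype])),
        fun n hn => by
          rw [mem_normalizer_iff_map_conj_eq]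
          refine eq_of_le_of_card_ge ?_ (card_map_of_injective (MulAut.conj n).injective).ge
          rintro _ ⟨_, ⟨m, hm, rfl⟩, rfl⟩
          exact ⟨⟨n, hn⟩ * m * ⟨n, hn⟩⁻¹, hM₀.conj_mem m hm _, rfl⟩⟩
  -- `M` contains an involution
  obtain ⟨t, htM, ht⟩ : ∃ t ∈ M, orderOf t = 2 := by
    haveI : (M.subgroupOf N).Normal := (normal_subgroupOf_iff_le_normalizer hMtop.le).2 hMn
    have hON : Cfsg.oddCore ↥N = ⊥ := by
      haveI : (Cfsg.oddCore ↥N).Characteristic := Cores.pPrimeCore_characteristic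
      haveI : ((Cfsg.oddCore ↥N).map N.subtype).Normal := Cores.map_subtype_normal
      refine (map_eq_bot_iff_of_injective _ N.subtype_injective).1 (le_bot_iff.1 (hO ▸ Cores.le_oddCore ?_))
      rw [card_map_of_injective N.subtype_injective]
      exact Cores.odd_card_oddCore
    obtain ⟨t, ht, ht2⟩ := exists_involution_of_normal hON (N := M.subgroupOf N)
      (fun h => hM1 (by rw [← inf_eq_left.2 hMtop.le, ← subgroupOf_map_subtype, h, Subgroup.map_bot]))
    exact ⟨t, ht, by rw [Subgroup.orderOf_coe, ht2]⟩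
  set c : G → Subgroup G := fun g => M.map (MulAut.conj g).toMonoidHom with hcdef
  have hcN : ∀ g, c g ≤ N := fun g => by
    rintro _ ⟨m, hm, rfl⟩; exact hN.conj_mem m (hMtop.le hm) g
  have hcn : ∀ g, N ≤ normalizer (c g : Set G) := fun g => by
    have h := Subgroup.map_mono (f := (MulAut.conj g).toMonoidHom) hMn
    rw [map_equiv_normalizer_eq] at h
    refine le_trans ?_ h
    intro n hn
    exact ⟨g⁻¹ * n * g, by simpa using hN.conj_mem n hn g⁻¹, by simp [mul_assoc]⟩
  have hccard : ∀ g, Nat.card (c g) = Nat.card M := fun g => card_map_of_injective (MulAut.conj g).injective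
  -- distinct conjugates meet trivially
  have hdisj : ∀ g, c g ≠ M → c g ⊓ M = ⊥ := fun g hg => by
    by_contra h
    have hmem : c g ⊓ M ∈ {M : Subgroup G | M ≠ ⊥ ∧ M < N ∧ N ≤ normalizer (M : Set G)} :=
      ⟨h, lt_of_le_of_lt inf_le_right hMtop, fun n hn => mem_normalizer_iff.2 fun x => by
        have e1 := mem_normalizer_iff.1 (hcn g hn) x
        have e2 := mem_normalizer_iff.1 (hMn hn) x
        exact ⟨fun hx => ⟨e1.1 hx.1, e2.1 hx.2⟩, fun hx => ⟨e1.2 hx.1, e2.2 hx.2⟩⟩⟩
    have h1 : M ≤ c g := (hMmin hmem inf_le_right).trans inf_le_left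
    exact hg (eq_of_le_of_card_ge h1 (hccard g).le).symm
  obtain ⟨g₀, hg₀⟩ : ∃ g, c g ≠ M := by
    by_contra h
    push Not at h
    exact hMtop.ne (hmin M ⟨fun m hm g => h g ▸ ⟨m, hm, rfl⟩⟩ hM1 hMtop.le)
  -- `M` is solvable
  haveI hMsol : Group.IsSolvable ↥M := by
    haveI := solvable_of_le (A := c g₀) (fun x hx => mem_centralizer_singleton_iff.2
      (comm_of_le_centralizer (hdisj g₀ hg₀) (hMtop.le.trans (hcn g₀)) ((hcN g₀).trans hMn) hx htM))
      (hsol t ht)
    exact Group.isSolvable_of_isSolvable_injective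
      (f := (M.equivMapOfInjective (MulAut.conj g₀).toMonoidHom (MulAut.conj g₀).injective).toMonoidHom)
      (MulEquiv.injective _)
  -- so it is abelian
  have hMab : ∀ a ∈ M, ∀ b ∈ M, a * b = b * a := by
    have hle : ⁅M, M⁆ ≤ M := (commutator_le).2 fun a ha b hb =>
      mul_mem (mul_mem (mul_mem ha hb) (inv_mem ha)) (inv_mem hb)
    by_contra h
    push Not at h
    obtain ⟨a, ha, b, hb, hab⟩ := h
    have hne : ⁅M, M⁆ ≠ ⊥ := fun e => hab (commutatorElement_eq_one_iff_mul_comm.1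
      (mem_bot.1 (e ▸ commutator_mem_commutator ha hb)))
    have hn : N ≤ normalizer ((⁅M, M⁆ : Subgroup G) : Set G) := fun n hn => by
      rw [mem_normalizer_iff_map_conj_eq, Subgroup.map_commutator,
        mem_normalizer_iff_map_conj_eq.1 (hMn hn)]
    have he : ⁅M, M⁆ = M := le_antisymm hle (hMmin ⟨hne, lt_of_le_of_lt hle hMtop, hn⟩ hle)
    have hM' : commutator ↥M = ⊤ := by
      refine map_injective M.subtype_injective ?_
      rw [map_subtype_commutator, he, ← MonoidHom.range_eq_map, range_subtype]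
    haveI : Nontrivial M := (nontrivial_iff_ne_bot M).2 hM1
    exact absurd hM' (Group.IsSolvable.commutator_lt_top_of_nontrivial ↥M).ne
  -- the conjugates generate `N` and commute with each other
  have hset : ∀ x ∈ Set.range c, ∀ y ∈ Set.range c, ∀ a ∈ x, ∀ b ∈ y, a * b = b * a := by
    rintro _ ⟨g, rfl⟩ _ ⟨h, rfl⟩ a ⟨m, hm, rfl⟩ b ⟨m', hm', rfl⟩
    simp only [MulEquiv.coe_toMonoidHom, MulAut.conj_apply]
    have hk : (g⁻¹ * h) * m' * (g⁻¹ * h)⁻¹ ∈ c (g⁻¹ * h) := ⟨m', hm', rfl⟩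
    have h1 : m * ((g⁻¹ * h) * m' * (g⁻¹ * h)⁻¹) = (g⁻¹ * h) * m' * (g⁻¹ * h)⁻¹ * m := by
      by_cases he : c (g⁻¹ * h) = M
      · exact hMab _ hm _ (he ▸ hk)
      · exact (comm_of_le_centralizer (hdisj _ he) (hMtop.le.trans (hcn _)) ((hcN _).trans hMn) hk hm).symm
    have h2 := congrArg (fun z => g * z * g⁻¹) h1
    group at h2 ⊢
    exact h2
  set K := closure (⋃ g : G, (c g : Set G)) with hK
  have hKn : K.Normal := by
    refine ⟨fun k hk x => ?_⟩
    have hle : K ≤ K.comap (MulAut.conj x).toMonoidHom := (closure_le _).2 fun z hz => by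
      obtain ⟨g, m, hm, rfl⟩ := Set.mem_iUnion.1 hz
      refine subset_closure (Set.mem_iUnion.2 ⟨x * g, m, hm, ?_⟩)
      simp [mul_assoc]
    exact hle hk
  have hKN : K = N := by
    refine hmin K hKn (fun h => hM1 (le_bot_iff.1 (h ▸ fun m hm => subset_closure
      (Set.mem_iUnion.2 ⟨1, m, hm, by simp⟩)))) ((closure_le _).2 fun z hz => ?_)
    obtain ⟨g, hz⟩ := Set.mem_iUnion.1 hz
    exact hcN g hz
  apply hns
  haveI : IsMulCommutative ↥K := Subgroup.isMulCommutative_closure fun a ha b hb => by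
    obtain ⟨g, ha⟩ := Set.mem_iUnion.1 ha
    obtain ⟨h, hb⟩ := Set.mem_iUnion.1 hb
    exact hset _ ⟨g, rfl⟩ _ ⟨h, rfl⟩ a ha b hb
  rw [← hKN]
  exact Group.isSolvable_of_comm fun a b => mul_comm' a b

theorem core_free_case (hB : SECoreHyp.{u}) (hBend : H76.PostBender.BenderHyp.{u}) (hK : GWKleinHyp.{u})
    (hO : Cfsg.oddCore G = ⊥) (S : Sylow 2 G) (hS : IsMulCommutative ↥(S : Subgroup G))
    (hsol : ∀ t : G, orderOf t = 2 → Group.IsSolvable ↥(centralizer ({t} : Set G))) :
    Group.IsSolvable G ∨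
      ∃ (F : Type) (_ : Field F) (_ : Fintype F), GoodField F ∧ ∃ N : Subgroup G, N.Normal ∧
        Nonempty (↥N ≃* Matrix.ProjectiveSpecialLinearGroup (Fin 2) F) ∧
        centralizer (N : Set G) = ⊥ := by
  haveI : Fact (Nat.Prime 2) := ⟨Nat.prime_two⟩
  by_cases hG1 : Subsingleton G
  · exact Or.inl (Group.isSolvable_of_comm fun a b => Subsingleton.elim _ _)
  rw [not_subsingleton_iff_nontrivial] at hG1
  obtain ⟨N, ⟨hNn, hN1⟩, hNmin⟩ :=
    (Set.toFinite {N : Subgroup G | N.Normal ∧ N ≠ ⊥}).exists_minimal ⟨⊤, inferInstance, top_ne_bot⟩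
  haveI := hNn
  have hmin : ∀ K : Subgroup G, K.Normal → K ≠ ⊥ → K ≤ N → K = N := fun K h1 h2 h3 =>
    le_antisymm h3 (hNmin ⟨h1, h2⟩ h3)
  obtain ⟨t, htN, ht⟩ := exists_involution_of_normal hO hN1
  have hCN : centralizer (N : Set G) ≤ centralizer ({t} : Set G) := centralizer_le (by simpa using htN)
  by_cases hNsol : Group.IsSolvable ↥N
  · -- an abelian normal 2-subgroup
    left
    have hab : ∀ a ∈ N, ∀ b ∈ N, a * b = b * a := by
      by_contra h
      push Not at h
      obtain ⟨a, ha, b, hb, hab⟩ := h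
      have hne : ⁅N, N⁆ ≠ ⊥ := fun e => hab (commutatorElement_eq_one_iff_mul_comm.1
        (mem_bot.1 (e ▸ commutator_mem_commutator ha hb)))
      have he : ⁅N, N⁆ = N := hmin _ inferInstance hne (commutator_le_self N)
      have hN' : commutator ↥N = ⊤ := by
        refine map_injective N.subtype_injective ?_
        rw [map_subtype_commutator, he, ← MonoidHom.range_eq_map, range_subtype]
      haveI : Nontrivial N := (nontrivial_iff_ne_bot N).2 hN1
      exact absurd hN' (Group.IsSolvable.commutator_lt_top_of_nontrivial ↥N).ne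
    let Ω : Subgroup G :=
      { carrier := {a | a ∈ N ∧ a ^ 2 = 1}
        one_mem' := ⟨one_mem N, one_pow 2⟩
        mul_mem' := fun {a b} ha hb => ⟨mul_mem ha.1 hb.1, by
          rw [(show Commute a b from hab a ha.1 b hb.1).mul_pow, ha.2, hb.2, one_mul]⟩
        inv_mem' := fun {a} ha => ⟨inv_mem ha.1, by rw [inv_pow, ha.2, inv_one]⟩ }
    have hΩn : Ω.Normal := ⟨fun a ha g => ⟨hNn.conj_mem a ha.1 g, by rw [conj_pow, ha.2, mul_one, mul_inv_cancel]⟩⟩
    have hΩ : Ω = N := hmin Ω hΩn (fun h => by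
      have ht1 : t = 1 := mem_bot.1 (h ▸ (⟨htN, by rw [← ht, pow_orderOf_eq_one]⟩ : t ∈ Ω))
      rw [ht1, orderOf_one] at ht; omega) fun a ha => ha.1
    have hNS : N ≤ (S : Subgroup G) := by
      have hp : IsPGroup 2 ↥N := fun a => ⟨1, Subtype.ext (by
        simpa using (hΩ.ge a.2).2)⟩
      exact (Cores.le_pCore hp).trans (Cores.pCore_le_sylow S)
    have hSC : (S : Subgroup G) ≤ centralizer (N : Set G) := fun s hs => mem_centralizer_iff.2
      fun n hn => (comm_of_sylow S hS S.isPGroup' (hNS hn) hs).eq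
    set C := centralizer (N : Set G)
    haveI : C.Normal := normal_centralizer
    haveI : Group.IsSolvable ↥C := solvable_of_le hCN (hsol t ht)
    haveI : Group.IsSolvable (G ⧸ C) := S0205.result (Nat.not_even_iff_odd.1 fun he =>
      S.not_dvd_index ((even_iff_two_dvd.1 he).trans (index_dvd_of_le hSC)))
    exact Group.isSolvable_of_ker_le_range C.subtype (QuotientGroup.mk' C)
      (by rw [QuotientGroup.ker_mk', range_subtype])
  right
  haveI := minimal_normal_simple hO hsol hN1 hmin hNsol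
  have hna : ¬ IsMulCommutative ↥N := fun h => hNsol (Group.isSolvable_of_comm h.1.comm)
  have hC : centralizer (N : Set G) = ⊥ := by
    haveI : (centralizer (N : Set G)).Normal := normal_centralizer
    by_contra h
    obtain ⟨s, hsC, hs⟩ := exists_involution_of_normal hO h
    exact hNsol (solvable_of_le (fun n hn => mem_centralizer_singleton_iff.2
      (mem_centralizer_iff.1 hsC n hn)) (hsol s hs))
  obtain ⟨T⟩ : Nonempty (Sylow 2 ↥N) := inferInstance
  have hT : IsMulCommutative ↥(T : Subgroup ↥N) := ⟨⟨fun a b => Subtype.ext (Subtype.ext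
    (comm_map N.subtype S hS T.isPGroup' a.2 b.2).eq)⟩⟩
  by_cases h2 : Cfsg.PRankLE 2 2 ↥N
  · obtain ⟨F, _, _, hF, he⟩ := rank_two_case T hK hna hT h2
    exact ⟨F, _, _, hF, N, hNn, he, hC⟩
  · obtain ⟨F, _, _, hF, he⟩ := rank_three_case T hB hBend hna hT (solvable_centralizer_sub hsol N) h2
    exact ⟨F, _, _, hF, N, hNn, he, hC⟩

/-- Involution centralisers in the quotient by the odd core. -/
theorem solvable_centralizer_quotient {O : Subgroup G} [O.Normal] (hO : Odd (Nat.card O))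
    (hsol : ∀ t : G, orderOf t = 2 → Group.IsSolvable ↥(centralizer ({t} : Set G)))
    (x : G ⧸ O) (hx : orderOf x = 2) : Group.IsSolvable ↥(centralizer ({x} : Set (G ⧸ O))) := by
  obtain ⟨y, rfl⟩ := QuotientGroup.mk'_surjective O x
  set π := QuotientGroup.mk' O
  have hker : ∀ y, π y = 1 ↔ y ∈ O := fun y => QuotientGroup.eq_one_iff y
  have hyy : y * y ∈ O := (hker _).1 (by rw [map_mul, ← pow_two, ← hx, pow_orderOf_eq_one])
  have hyO : y ∉ O := fun h => by rw [(hker y).2 h, orderOf_one] at hx; omega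
  obtain ⟨k, hk⟩ := H29.Bender.exists_involution_of_sq hO hyy hyO
  set t := y * (y * y) ^ k
  have hty : π t = π y := by rw [map_mul, map_pow, (hker _).2 hyy, one_pow, mul_one]
  clear_value t
  haveI := hsol t hk
  refine Group.isSolvable_of_surjective (G := ↥(centralizer ({t} : Set G)))
    (f := (π.comp (centralizer ({t} : Set G)).subtype).codRestrict _ fun c =>
      mem_centralizer_singleton_iff.2 (by
        show π c * π y = π y * π c
        rw [← hty, ← map_mul, ← map_mul, mem_centralizer_singleton_iff.1 c.2])) ?_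
  rintro ⟨gq, hg⟩
  obtain ⟨g, rfl⟩ := QuotientGroup.mk'_surjective O gq
  have hmem : t * (g * t * g⁻¹) ∈ O := by
    refine (hker _).1 ?_
    rw [map_mul π t, map_mul, map_mul, map_inv, hty, mem_centralizer_singleton_iff.1 hg, mul_inv_cancel_right,
      ← pow_two, ← hx, pow_orderOf_eq_one]
  have hodd : Odd (orderOf (t * (g * t * g⁻¹))) := by
    rw [← Subgroup.orderOf_mk _ hmem]
    exact hO.of_dvd_nat (orderOf_dvd_natCard _)
  obtain ⟨k', hk', -, -, hkc⟩ := H39.exists_conj_of_odd (a := g * t * g⁻¹) (b := t)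
    (by rw [H39.orderOf_conj, hk]) hk hodd
  have hkO : k' ∈ O := (zpowers_le.2 hmem) hk'
  refine ⟨⟨k' * g, mem_centralizer_singleton_iff.2 ?_⟩, Subtype.ext ?_⟩
  · calc k' * g * t = k' * (g * t * g⁻¹) * k'⁻¹ * (k' * g) := by group
      _ = t * (k' * g) := by rw [hkc]
  · show π (k' * g) = π g
    rw [map_mul, (hker k').2 hkO, one_mul]

/-- The statement of S3188. -/
theorem main (hB : SECoreHyp.{u}) (hBend : H76.PostBender.BenderHyp.{u}) (hK : GWKleinHyp.{u})
    (S : Sylow 2 G) (hS : IsMulCommutative ↥(S : Subgroup G))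
    (hsol : ∀ t : G, orderOf t = 2 → Group.IsSolvable ↥(centralizer ({t} : Set G))) :
    Group.IsSolvable G ∨
      ∃ (F : Type) (_ : Field F) (_ : Fintype F),
        (((Fintype.card F % 8 = 3 ∨ Fintype.card F % 8 = 5) ∧ 5 ≤ Fintype.card F) ∨
          (∃ n : ℕ, 2 ≤ n ∧ Fintype.card F = 2 ^ n)) ∧
        ∃ N : Subgroup (G ⧸ Cfsg.oddCore G), N.Normal ∧
          Nonempty (↥N ≃* Matrix.ProjectiveSpecialLinearGroup (Fin 2) F) ∧
          centralizer (N : Set (G ⧸ Cfsg.oddCore G)) = ⊥ := by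
  haveI : Fact (Nat.Prime 2) := ⟨Nat.prime_two⟩
  set π := QuotientGroup.mk' (Cfsg.oddCore G)
  obtain ⟨T⟩ : Nonempty (Sylow 2 (G ⧸ Cfsg.oddCore G)) := inferInstance
  obtain ⟨P, rfl⟩ := Sylow.mapSurjective_surjective (QuotientGroup.mk'_surjective (Cfsg.oddCore G)) 2 T
  have hT : IsMulCommutative ↥((P.mapSurjective (QuotientGroup.mk'_surjective (Cfsg.oddCore G)) : Sylow 2 _) :
      Subgroup (G ⧸ Cfsg.oddCore G)) := by
    refine ⟨⟨fun a b => Subtype.ext ?_⟩⟩
    obtain ⟨x, hx, hxa⟩ := a.2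
    obtain ⟨y, hy, hyb⟩ := b.2
    show (a : G ⧸ Cfsg.oddCore G) * b = b * a
    rw [← hxa, ← hyb]
    exact ((comm_of_sylow S hS P.isPGroup' hx hy).map _).eq
  refine (core_free_case hB hBend hK Cores.pPrimeCore_quotient_pPrimeCore _ hT
    (solvable_centralizer_quotient Cores.odd_card_oddCore hsol)).imp (fun h => ?_) id
  haveI := h
  haveI : Group.IsSolvable ↥(Cfsg.oddCore G) := S0205.result Cores.odd_card_oddCore
  exact Group.isSolvable_of_ker_le_range (Cfsg.oddCore G).subtype π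
    (by rw [QuotientGroup.ker_mk', range_subtype])

end Minimal

end Cfsg.Agent.H10.AbTwo
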