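import Cfsg.Agent.H10.AbTwo.Reduce
import Cfsg.Agent.Bridge.Bender
import Cfsg.Agent.S1221

/-!
# Abelian Sylow 2-subgroups with solvable involution centralisers: all inputs but the Klein case
-/

set_option autoImplicit false

namespace Cfsg.Agent.H10.AbTwo

open Subgroup

universe u

/-- The statement of S3188 from Gorenstein-Walter for Klein Sylow 2-subgroups. -/
theorem main_of_klein (hK : GWKleinHyp.{u}) {G : Type u} [Group G] [Finite G]
    (S : Sylow 2 G) (hS : IsMulCommutative ↥(S : Subgroup G))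
    (hC : ∀ t : G, orderOf t = 2 → Group.IsSolvable ↥(centralizer ({t} : Set G))) :
    Group.IsSolvable G ∨
      ∃ (F : Type) (_ : Field F) (_ : Fintype F),
        (((Fintype.card F % 8 = 3 ∨ Fintype.card F % 8 = 5) ∧ 5 ≤ Fintype.card F) ∨
          (∃ n : ℕ, 2 ≤ n ∧ Fintype.card F = 2 ^ n)) ∧
        ∃ N : Subgroup (G ⧸ Cfsg.oddCore G), N.Normal ∧
          Nonempty (↥N ≃* Matrix.ProjectiveSpecialLinearGroup (Fin 2) F) ∧
          centralizer (N : Set (G ⧸ Cfsg.oddCore G)) = ⊥ :=
  main (fun _ _ _ H hH => Cfsg.Agent.S1221.result H hH) Cfsg.Agent.Bridge.bender hK S hS hC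

end Cfsg.Agent.H10.AbTwo
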