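import Cfsg.Agent.H67.RankOneFix.SUThree
import Cfsg.Agent.Suzuki.Lie
import Cfsg.Agent.Suzuki.Simple
import Cfsg.Prelude.Def_Sz
import Cfsg.Prelude.Def_CaseTheorems

/-!
Sylow 2-subgroups that are not abelian: those of `PSU₃` in defining characteristic, of the Suzuki groups, and the
quasi-dihedral and wreathed groups.
-/

set_option autoImplicit false
set_option linter.unusedSectionVars false
set_option linter.style.haveILetI false

namespace Cfsg.Agent.H10.AbTwo

open Subgroup

section General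

variable {p : ℕ} [Fact p.Prime] {N : Type*} [Group N] [Finite N]

/-- If one Sylow subgroup is abelian, so are all `p`-subgroups. -/
theorem comm_of_sylow (S : Sylow p N) (hS : IsMulCommutative ↥(S : Subgroup N)) {Q : Subgroup N}
    (hQ : IsPGroup p Q) {x y : N} (hx : x ∈ Q) (hy : y ∈ Q) : Commute x y := by
  obtain ⟨T, hT⟩ := hQ.exists_le_sylow
  obtain ⟨g, hg⟩ := MulAction.exists_smul_eq N S T
  have hx' := hT hx
  have hy' := hT hy
  rw [← hg] at hx' hy'
  change x ∈ (S : Subgroup N).map (MulAut.conj g).toMonoidHom at hx'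
  change y ∈ (S : Subgroup N).map (MulAut.conj g).toMonoidHom at hy'
  obtain ⟨a, ha, rfl⟩ := hx'
  obtain ⟨b, hb, rfl⟩ := hy'
  exact (show Commute a b from congrArg Subtype.val (hS.1.comm ⟨a, ha⟩ ⟨b, hb⟩)).map _

theorem comm_map {X : Type*} [Group X] (π : X →* N) (S : Sylow p N)
    (hS : IsMulCommutative ↥(S : Subgroup N)) {Q : Subgroup X} (hQ : IsPGroup p Q) {x y : X}
    (hx : x ∈ Q) (hy : y ∈ Q) : Commute (π x) (π y) :=
  comm_of_sylow S hS (hQ.map π) (mem_map_of_mem π hx) (mem_map_of_mem π hy)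

end General

section Unitary

open Cfsg.Agent.H67.RankOneFix Cfsg.Agent.Unitary Cfsg.Agent.H52.SUThree

variable {p : ℕ} [Fact p.Prime] {F : Type} [Field F] [Fintype F] [CharP F p] {q : ℕ}

/-- The Sylow `p`-subgroups of `PSU₃` in characteristic `p` are not abelian. -/
theorem psu_sylow_nonabelian (hF : Fintype.card F = q ^ 2) {N : Type*} [Group N] [Finite N]
    (e : N ≃* Cfsg.PSU 3 F q) (S : Sylow p N) : ¬ IsMulCommutative ↥(S : Subgroup N) := by
  intro hS
  classical
  obtain ⟨u, w, f, hfr⟩ := exists_frame (F := F) hF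
  have hu0 : u ≠ 0 := fun h => by
    have := hfr.uf; rw [h, herm_zero_left] at this; exact zero_ne_one this
  have hp : IsPGroup p (fixer 3 F q ({u} : Set (Fin 3 → F))) := fun g =>
    ⟨2, Subtype.ext (isPGroup_fixer hF hu0 hfr.uu (mem_fixer.1 g.2 u rfl))⟩
  have key : ∀ a : F, a ^ q = a := by
    intro a
    obtain ⟨α, hα⟩ := exists_ok hF a
    obtain ⟨β, hβ⟩ := exists_ok hF (1 : F)
    have hfixA : eSU hF (hα.spec hfr) ∈ fixer 3 F q ({u} : Set (Fin 3 → F)) :=
      mem_fixer.2 fun z hz => by rw [hz]; exact E_fixes hF hfr hα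
    have hfixB : eSU hF (hβ.spec hfr) ∈ fixer 3 F q ({u} : Set (Fin 3 → F)) :=
      mem_fixer.2 fun z hz => by rw [hz]; exact E_fixes hF hfr hβ
    set A := eSU hF (hα.spec hfr)
    set B := eSU hF (hβ.spec hfr)
    have hc := comm_map (e.symm.toMonoidHom.comp (QuotientGroup.mk' (center (Cfsg.SU 3 F q)))) S hS hp
      hfixA hfixB
    have hz : (B * A)⁻¹ * (A * B) ∈ center (Cfsg.SU 3 F q) := by
      refine (QuotientGroup.eq (s := center (Cfsg.SU 3 F q))).1 (e.symm.injective ?_)
      simpa only [map_mul, MonoidHom.comp_apply, MulEquiv.coe_toMonoidHom, QuotientGroup.mk'_apply,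
        QuotientGroup.mk_mul] using hc.eq.symm
    obtain ⟨l, hl⟩ := eq_smul_of_mem_center hF (by norm_num) hz
    have hu : ap ((B * A)⁻¹ * (A * B)) u = u :=
      mem_fixer.1 (mul_mem (inv_mem (mul_mem hfixB hfixA)) (mul_mem hfixA hfixB)) u rfl
    rw [hl u] at hu
    have hl1 : l = 1 := smul_left_injective F hu0 (by simpa using hu)
    have h1 : A * B = B * A := by
      refine (inv_mul_eq_one.1 (ap_ext fun x => ?_)).symm
      rw [hl x, hl1, one_smul, ap_one]
    have h2 := congrArg (fun g => hermForm 3 F q (ap g (vec u w f 0 0 1)) f) h1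
    rw [E_mul hF hfr hα hβ, E_mul hF hfr hβ hα] at h2
    simp only [ap_E hF hfr (hα.add hF hβ), ap_E hF hfr (hβ.add hF hα)] at h2
    simp only [hfr.coord_f, mul_zero, sub_zero, mul_one, one_pow] at h2
    linear_combination -h2
  have h1q : 1 < q := by
    have := Fintype.one_lt_card (α := F)
    rw [hF] at this
    nlinarith
  set P : Polynomial F := Polynomial.X ^ q - Polynomial.X with hP
  have hdeg : P.natDegree = q := by
    rw [hP]; exact FiniteField.X_pow_card_sub_X_natDegree_eq F h1q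
  have hsub : (Finset.univ : Finset F) ⊆ P.roots.toFinset := fun a _ => by
    rw [Multiset.mem_toFinset, Polynomial.mem_roots (fun h => by rw [h] at hdeg; simp at hdeg; omega)]
    simp [hP, key a]
  have := (Finset.card_le_card hsub).trans (P.roots.toFinset_card_le.trans P.card_roots')
  rw [Finset.card_univ, hF, hdeg] at this
  nlinarith

end Unitary

/-- The Sylow 2-subgroups of the Suzuki groups are not abelian. -/
theorem sz_sylow_nonabelian {N : Type*} [Group N] [Finite N] (h : Cfsg.Lie.IsoSuzuki N) (S : Sylow 2 N) :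
    ¬ IsMulCommutative ↥(S : Subgroup N) := by
  intro hS
  haveI : Fact (Nat.Prime 2) := ⟨Nat.prime_two⟩
  obtain ⟨F, _, _, m, hm, hF, ⟨e⟩⟩ := h
  haveI : Suzuki.SzField F m := ⟨hF, hm⟩
  obtain ⟨c, hc0, hc1⟩ := Suzuki.exists_ne_zero_one (F := F) m
  have hcomm := comm_map (e.symm.toMonoidHom.comp (Suzuki.lieEquiv m).toMonoidHom) S hS
    (Suzuki.isPGroup_U (F := F) m) (Suzuki.u_mem_U m 1 0) (Suzuki.u_mem_U m c 0)
  have h1 : (Suzuki.u m (1 : F) 0 : Cfsg.Sz F m) * Suzuki.u m c 0 =
      Suzuki.u m c 0 * Suzuki.u m 1 0 := by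
    refine (Suzuki.lieEquiv m).injective (e.symm.injective ?_)
    simpa only [map_mul, MonoidHom.comp_apply, MulEquiv.coe_toMonoidHom] using hcomm.eq
  rw [Suzuki.u_mul, Suzuki.u_mul, Suzuki.u_inj] at h1
  have h2 := h1.2
  simp only [Suzuki.th_one, zero_add, one_mul, mul_one] at h2
  rcases Suzuki.th_eq_self m h2.symm with h | h
  exacts [hc0 h, hc1 h]

theorem qd_nonabelian {P : Type*} [Group P] (hP : Cfsg.IsQuasiDihedral P) : ¬ IsMulCommutative P := by
  rintro hc
  obtain ⟨n, hn, -, x, y, hx, -, hxy⟩ := hP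
  rw [hc.1.comm y x, mul_inv_cancel_right] at hxy
  obtain ⟨k, rfl⟩ : ∃ k, n = k + 3 := ⟨n - 3, by omega⟩
  have h1 : (2 : ℕ) ≤ 2 ^ k * 4 := by have := Nat.one_le_two_pow (n := k); omega
  have h2 : x ^ (2 ^ (k + 3 - 1) - 2) = 1 := by
    have e : x ^ 1 * x ^ (2 ^ (k + 3 - 1) - 2) = x ^ 1 * 1 := by
      rw [← pow_add, mul_one, pow_one]
      conv_rhs => rw [hxy]
      congr 1
      simp only [pow_succ, Nat.add_one_sub_one] at *
      omega
    exact mul_left_cancel e
  have h3 := Nat.le_of_dvd (by simp only [Nat.add_one_sub_one, pow_succ]; omega)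
    (orderOf_dvd_of_pow_eq_one h2)
  rw [hx] at h3
  simp only [Nat.add_one_sub_one, pow_succ] at h3
  omega

theorem wreathed_nonabelian {P : Type*} [Group P] (hP : Cfsg.IsWreathed P) : ¬ IsMulCommutative P := by
  rintro hc
  obtain ⟨n, hn, -, x, y, z, hx, -, hdisj, -, hzx⟩ := hP
  rw [hc.1.comm z x, mul_inv_cancel_right] at hzx
  subst hzx
  rw [inf_idem, zpowers_eq_bot] at hdisj
  rw [hdisj, orderOf_one] at hx
  have : 1 < 2 ^ n := Nat.one_lt_two_pow (by omega)
  omega

/-- An abelian dihedral group has order four. -/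
theorem dihedral_abelian {P : Type*} [Group P] (hc : IsMulCommutative P) {n : ℕ} (hn : 2 ≤ n)
    (e : P ≃* DihedralGroup n) : n = 2 := by
  have h := congrArg e (hc.1.comm (e.symm (DihedralGroup.r 1)) (e.symm (DihedralGroup.sr 0)))
  simp only [map_mul, MulEquiv.apply_symm_apply, DihedralGroup.r_mul_sr, DihedralGroup.sr_mul_r,
    zero_sub, zero_add] at h
  have h1 : (-1 : ZMod n) = 1 := by injection h
  have h2 : ((2 : ℕ) : ZMod n) = 0 := by
    push_cast
    linear_combination -h1
  have := Nat.le_of_dvd (by norm_num) ((ZMod.natCast_eq_zero_iff 2 n).1 h2)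
  omega

end Cfsg.Agent.H10.AbTwo
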